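import Groth.Agent.CartierIneqLib.Basic

/-!
# Infinitesimal deformations of pencils with prescribed ramification

For a field `L` generated by the coefficients of a normalised pencil `F, G` and by the marked points, the
derivations of `L` embed into a space of dimension at most the number of points.
-/

set_option autoImplicit false

universe u

open Polynomial Module IntermediateField

noncomputable section

namespace RamMapLib

variable {k : Type u} [Field k] {L : Type u} [Field L] [Algebra k L]

/-- A derivation applied to the coefficients. -/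
def cm (D : Derivation k L L) : L[X] →+ L[X] where
  toFun f := f.sum fun n a => monomial n (D a)
  map_zero' := by simp
  map_add' f g := sum_add_index f g _ (by simp) (by simp)

theorem coeff_cm (D : Derivation k L L) (f : L[X]) (n : ℕ) : (cm D f).coeff n = D (f.coeff n) := by
  show (f.sum fun n a => monomial n (D a)).coeff n = _
  simp only [sum_def, finsetSum_coeff, coeff_monomial]
  rw [Finset.sum_ite_eq']
  split
  · rfl
  · rename_i h
    simp only [Polynomial.mem_support_iff, not_not] at h
    rw [h, map_zero]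

theorem cm_monomial (D : Derivation k L L) (n : ℕ) (a : L) : cm D (monomial n a) = monomial n (D a) :=
  Polynomial.ext fun m => by
    rw [coeff_cm, coeff_monomial, coeff_monomial, apply_ite D, map_zero]

theorem cm_C (D : Derivation k L L) (a : L) : cm D (C a) = C (D a) := by
  rw [← monomial_zero_left, cm_monomial, monomial_zero_left]

theorem cm_X (D : Derivation k L L) : cm D X = 0 := by
  rw [← monomial_one_one_eq_X, cm_monomial, Derivation.map_one_eq_zero, map_zero]

theorem cm_mul (D : Derivation k L L) (f g : L[X]) : cm D (f * g) = f * cm D g + g * cm D f := by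
  induction f using Polynomial.induction_on' with
  | add p q hp hq => rw [add_mul, map_add, hp, hq, map_add]; ring
  | monomial n a =>
    induction g using Polynomial.induction_on' with
    | add p q hp hq => rw [mul_add, map_add, hp, hq, map_add]; ring
    | monomial m b =>
      rw [monomial_mul_monomial, cm_monomial, cm_monomial, cm_monomial, Derivation.leibniz, monomial_mul_monomial,
        monomial_mul_monomial, map_add, smul_eq_mul, smul_eq_mul, add_comm m n]

theorem cm_pow (D : Derivation k L L) (f : L[X]) (n : ℕ) :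
    cm D (f ^ (n + 1)) = C ((n : L) + 1) * f ^ n * cm D f := by
  induction n with
  | zero => simp
  | succ n ih =>
    rw [pow_succ f (n + 1), cm_mul, ih]
    push_cast
    simp only [map_add, map_one]
    ring

theorem natDegree_cm_le (D : Derivation k L L) {f : L[X]} {d : ℕ} (hf : f.natDegree ≤ d) :
    (cm D f).natDegree ≤ d :=
  natDegree_le_iff_coeff_eq_zero.2 fun n hn => by
    rw [coeff_cm, coeff_eq_zero_of_natDegree_lt (lt_of_le_of_lt hf hn), map_zero]

/-- The data of a normalised pencil with prescribed ramification. -/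
structure Data (n d : ℕ) (e : Fin n → ℕ) (L : Type u) [Field L] where
  F : L[X]
  G : L[X]
  P : Fin n → L
  H : Fin n → L[X]
  a : ℕ
  b : ℕ
  hF : F.natDegree ≤ d
  hG : G.natDegree ≤ d
  hcop : IsCoprime F G
  hlead : F.coeff d ≠ 0 ∨ G.coeff d ≠ 0
  hFa : F.coeff a = 1
  hFb : F.coeff b = 0
  hGa : G.coeff a = 0
  hGb : G.coeff b = 1
  hinj : Function.Injective P
  hram : ∀ i, C (G.eval (P i)) * F - C (F.eval (P i)) * G = (X - C (P i)) ^ e i * H i
  hH : ∀ i, (H i).eval (P i) ≠ 0

variable {n d : ℕ} {e : Fin n → ℕ} (T : Data n d e L)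

/-- The deformation of a pencil along a derivation. -/
def Data.dv (D : Derivation k L L) : L[X] := T.F * cm D T.G - T.G * cm D T.F

theorem Data.exists_unit_comb (i : Fin n) : ∃ γ δ : L, γ * T.F.eval (T.P i) + δ * T.G.eval (T.P i) = 1 := by
  obtain ⟨u, w, huw⟩ := T.hcop
  refine ⟨u.eval (T.P i), w.eval (T.P i), ?_⟩
  simpa using congrArg (Polynomial.eval (T.P i)) huw

/-- A member of the pencil which is `1` at the point `i`. -/
def Data.R (i : Fin n) : L[X] :=
  C (T.exists_unit_comb i).choose * T.F + C (T.exists_unit_comb i).choose_spec.choose * T.G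

theorem Data.eval_R (i : Fin n) : (T.R i).eval (T.P i) = 1 := by
  simp only [Data.R, eval_add, eval_mul, eval_C]
  exact (T.exists_unit_comb i).choose_spec.choose_spec

theorem Data.dv_eq (D : Derivation k L L) (i : Fin n) (he : 1 ≤ e i) :
    ∃ (lam : L) (S : L[X]), T.dv D = C lam * T.R i ^ 2 +
      C ((e i : L) * D (T.P i)) * (X - C (T.P i)) ^ (e i - 1) * T.R i * T.H i +
      (X - C (T.P i)) ^ e i * S := by
  set γ := (T.exists_unit_comb i).choose with hγ
  set δ := (T.exists_unit_comb i).choose_spec.choose with hδ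
  have h1 : γ * T.F.eval (T.P i) + δ * T.G.eval (T.P i) = 1 := (T.exists_unit_comb i).choose_spec.choose_spec
  have hR : T.R i = C γ * T.F + C δ * T.G := rfl
  set fP := T.F.eval (T.P i)
  set gP := T.G.eval (T.P i)
  set p := T.P i
  obtain ⟨m, hm⟩ : ∃ m, e i = m + 1 := ⟨e i - 1, by omega⟩
  have hs : C gP * T.F - C fP * T.G = (X - C p) ^ e i * T.H i := T.hram i
  have hcs := congrArg (cm D) hs
  rw [map_sub, cm_mul, cm_mul, cm_mul, cm_C, cm_C, hm, cm_pow, map_sub, cm_X, cm_C] at hcs
  rw [hm] at hs ⊢
  rw [Nat.add_sub_cancel]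
  have hone : C γ * C fP + C δ * C gP = (1 : L[X]) := by rw [← map_mul, ← map_mul, ← map_add, h1, map_one]
  refine ⟨D gP * fP - D fP * gP,
    T.H i * (T.R i * (C δ * C (D gP) + C γ * C (D fP)) + C γ * cm D T.F + C δ * cm D T.G) - T.R i * cm D (T.H i), ?_⟩
  simp only [Data.dv, hR, map_sub, map_mul, Nat.cast_add, Nat.cast_one, map_add, map_one] at hcs ⊢
  linear_combination -(C γ * T.F + C δ * T.G) * hcs
    - (T.F * cm D T.G - T.G * cm D T.F
        + (C (D gP) * T.F - C (D fP) * T.G) * (C γ * T.F + C δ * T.G)) * hone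
    + ((C γ * T.F + C δ * T.G) * (C δ * C (D gP) + C γ * C (D fP)) + C γ * cm D T.F + C δ * cm D T.G) * hs

/-- The linear conditions on deformations. -/
def Data.X : Submodule L L[X] where
  carrier := {v | v.natDegree ≤ 2 * d ∧
    ∀ i, (Polynomial.X - C (T.P i)) ^ (e i - 1) ∣ v - C (v.eval (T.P i)) * T.R i ^ 2}
  zero_mem' := ⟨by simp, fun i => by simp⟩
  add_mem' := by
    rintro v w ⟨hv, hv'⟩ ⟨hw, hw'⟩
    refine ⟨(natDegree_add_le v w).trans (max_le hv hw), fun i => ?_⟩
    rw [show v + w - C ((v + w).eval (T.P i)) * T.R i ^ 2 =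
      (v - C (v.eval (T.P i)) * T.R i ^ 2) + (w - C (w.eval (T.P i)) * T.R i ^ 2) by
        rw [eval_add, map_add]; ring]
    exact dvd_add (hv' i) (hw' i)
  smul_mem' := by
    rintro c v ⟨hv, hv'⟩
    refine ⟨(natDegree_smul_le c v).trans hv, fun i => ?_⟩
    rw [show c • v - C ((c • v).eval (T.P i)) * T.R i ^ 2 = C c * (v - C (v.eval (T.P i)) * T.R i ^ 2) by
        rw [eval_smul, smul_eq_C_mul, smul_eq_mul, map_mul]; ring]
    exact (hv' i).mul_left _

/-- The values at the points. -/
def Data.ev : L[X] →ₗ[L] (Fin n → L) := LinearMap.pi fun i => leval (T.P i)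

theorem Data.finrank_inf_le (hsum : (∑ i, e i) + 2 = 2 * d + n) (he : ∀ i, 1 ≤ e i) (U : Submodule L (Fin n → L)) :
    Module.Finite L ↥(T.X ⊓ U.comap T.ev) ∧ finrank L ↥(T.X ⊓ U.comap T.ev) ≤ finrank L U + 3 := by
  let A := T.X ⊓ U.comap T.ev
  have hA : A ≤ degreeLT L (2 * d + 1) := fun v hv =>
    mem_degreeLT.2 (lt_of_le_of_lt degree_le_natDegree (by exact_mod_cast Nat.lt_succ_of_le hv.1.1))
  haveI : Module.Finite L (degreeLT L (2 * d + 1)) := Module.Finite.equiv (degreeLTEquiv L (2 * d + 1)).symm
  haveI : Module.Finite L A := Module.Finite.of_injective (Submodule.inclusion hA) (Submodule.inclusion_injective _)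
  refine ⟨inferInstance, ?_⟩
  let f : A →ₗ[L] U := (T.ev.comp A.subtype).codRestrict U fun v => v.2.2
  have h1 := f.finrank_range_add_finrank_ker
  have h2 : finrank L (LinearMap.range f) ≤ finrank L U := Submodule.finrank_le _
  let N : L[X] := ∏ i, (Polynomial.X - C (T.P i)) ^ (e i - 1)
  have hN0 : N ≠ 0 := Finset.prod_ne_zero_iff.2 fun i _ => pow_ne_zero _ (X_sub_C_ne_zero _)
  have hNd : N.natDegree + 2 = 2 * d := by
    rw [natDegree_prod _ _ fun i _ => pow_ne_zero _ (X_sub_C_ne_zero _)]
    simp only [natDegree_pow, natDegree_X_sub_C, mul_one]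
    have : ∑ i, (e i - 1) + ∑ _i : Fin n, 1 = ∑ i, e i := by
      rw [← Finset.sum_add_distrib]
      exact Finset.sum_congr rfl fun i _ => Nat.sub_add_cancel (he i)
    simp at this
    omega
  let g : degreeLT L 3 →ₗ[L] L[X] := (LinearMap.mulLeft L N).comp (degreeLT L 3).subtype
  haveI : Module.Finite L (degreeLT L 3) := Module.Finite.equiv (degreeLTEquiv L 3).symm
  have hker : (LinearMap.ker f).map A.subtype ≤ LinearMap.range g := by
    rintro v ⟨w, hw, rfl⟩
    have h0 : ∀ i, (w : L[X]).eval (T.P i) = 0 := fun i =>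
      congrFun (congrArg Subtype.val (LinearMap.mem_ker.1 hw)) i
    have hdiv : N ∣ (w : L[X]) := by
      refine Fintype.prod_dvd_of_coprime ?_ fun i => ?_
      · intro i j hij
        exact (Polynomial.pairwise_coprime_X_sub_C T.hinj hij).pow
      · have := w.2.1.2 i
        rwa [h0 i, map_zero, zero_mul, sub_zero] at this
    obtain ⟨q, hq⟩ := hdiv
    have hq3 : q ∈ degreeLT L 3 := by
      rw [mem_degreeLT]
      by_cases hq0 : q = 0
      · rw [hq0, degree_zero]; exact WithBot.bot_lt_coe _
      have := w.2.1.1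
      rw [hq, natDegree_mul hN0 hq0] at this
      exact lt_of_le_of_lt degree_le_natDegree (by exact_mod_cast (by omega : q.natDegree < 3))
    exact ⟨⟨q, hq3⟩, hq.symm⟩
  have h3 : finrank L (LinearMap.ker f) ≤ 3 := by
    rw [← Submodule.finrank_map_subtype_eq A (LinearMap.ker f)]
    refine (Submodule.finrank_mono hker).trans ((LinearMap.finrank_range_le g).trans ?_)
    rw [(degreeLTEquiv L 3).finrank_eq, finrank_fin_fun]
  show finrank L A ≤ _
  omega

/-- The squares and product of the pencil. -/
def Data.quad : (Fin 3 → L) →ₗ[L] L[X] :=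
  (Pi.basisFun L (Fin 3)).constr L ![T.F ^ 2, T.F * T.G, T.G ^ 2]

theorem Data.quad_apply (c : Fin 3 → L) :
    T.quad c = C (c 0) * T.F ^ 2 + C (c 1) * (T.F * T.G) + C (c 2) * T.G ^ 2 := by
  simp [Data.quad, Module.Basis.constr_apply_fintype, Fin.sum_univ_three, smul_eq_C_mul]

theorem Data.one_le (hsum : (∑ i, e i) + 2 = 2 * d + n) (he : ∀ i, 1 ≤ e i) : 1 ≤ d := by
  have : ∑ _i : Fin n, 1 ≤ ∑ i, e i := Finset.sum_le_sum fun i _ => he i
  simp at this
  omega

theorem Data.injective_quad (hd : 1 ≤ d) : Function.Injective T.quad := by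
  refine (injective_iff_map_eq_zero _).2 fun c hc => ?_
  rw [T.quad_apply] at hc
  have hFne : T.F ≠ 0 := fun h => by simpa [h] using T.hFa
  have hGne : T.G ≠ 0 := fun h => by simpa [h] using T.hGb
  have main : ∀ (A B : L[X]) (x y z : L), IsCoprime A B → A ≠ 0 → A.natDegree ≤ d →
      (A.coeff d ≠ 0 ∨ B.coeff d ≠ 0) → C x * A ^ 2 + C y * (A * B) + C z * B ^ 2 = 0 → x = 0 := by
    intro A B x y z hAB hA hAd hl h
    by_contra hx
    have hdvd : B ∣ C x * A ^ 2 := ⟨-(C y * A + C z * B), by linear_combination h⟩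
    have hu : IsUnit B := (hAB.symm.pow_right (n := 2)).isUnit_of_dvd' dvd_rfl
      ((IsUnit.dvd_mul_left (isUnit_C.2 (IsUnit.mk0 x hx))).1 hdvd)
    obtain ⟨g, hg0, hg⟩ := Polynomial.isUnit_iff.1 hu
    subst hg
    have hAdeg : A.natDegree = d := by
      refine le_antisymm hAd (le_natDegree_of_ne_zero ?_)
      rcases hl with h' | h'
      · exact h'
      · rw [coeff_C, if_neg (by omega)] at h'
        exact absurd rfl h'
    have hcoeff := congrArg (fun q => coeff q (d + d)) h
    simp only [coeff_add, coeff_C_mul, sq, coeff_zero] at hcoeff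
    rw [coeff_mul_add_eq_of_natDegree_le hAd hAd, coeff_eq_zero_of_natDegree_lt (p := A * C g)
        (lt_of_le_of_lt (natDegree_mul_C_le _ _) (by omega)),
      show (C g).coeff (d + d) = 0 by rw [coeff_C, if_neg (by omega)]] at hcoeff
    have hne : A.coeff d ≠ 0 := by
      rw [← hAdeg]; exact leadingCoeff_ne_zero.2 hA
    simp at hcoeff
    rcases hcoeff with h' | h'
    · exact hx h'
    · exact hne h'
  have h0 := main T.F T.G _ _ _ T.hcop hFne T.hF T.hlead hc
  have h2 := main T.G T.F (c 2) (c 1) (c 0) T.hcop.symm hGne T.hG T.hlead.symm (by linear_combination hc)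
  have h1 : c 1 = 0 := by
    rw [h0, h2] at hc
    simpa [hFne, hGne] using hc
  funext i
  fin_cases i <;> assumption

theorem Data.quad_mem (hd : ∀ i, 1 ≤ e i) (c : Fin 3 → L) : T.quad c ∈ T.X := by
  rw [T.quad_apply]
  refine ⟨?_, fun i => ?_⟩
  · have hF := T.hF
    have hG := T.hG
    refine (natDegree_add_le _ _).trans (max_le ((natDegree_add_le _ _).trans (max_le ?_ ?_)) ?_)
    all_goals refine (natDegree_C_mul_le _ _).trans ?_
    · exact natDegree_pow_le.trans (by omega)
    · exact natDegree_mul_le.trans (by omega)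
    · exact natDegree_pow_le.trans (by omega)
  · set γ := (T.exists_unit_comb i).choose
    set δ := (T.exists_unit_comb i).choose_spec.choose
    have hR : T.R i = C γ * T.F + C δ * T.G := rfl
    set fP := T.F.eval (T.P i) with hfP
    set gP := T.G.eval (T.P i) with hgP
    have h1 : C γ * C fP + C δ * C gP = (1 : L[X]) := by
      rw [← map_mul, ← map_mul, ← map_add, (T.exists_unit_comb i).choose_spec.choose_spec, map_one]
    refine (pow_dvd_pow _ (Nat.sub_le (e i) 1)).trans
      ((Dvd.intro (T.H i) (T.hram i).symm).trans ?_)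
    simp only [eval_add, eval_mul, eval_C, eval_pow, map_add, map_mul, map_pow, ← hfP, ← hgP]
    refine ⟨C (c 0) * C δ * (T.F + C fP * T.R i) + C (c 1) * (C δ * T.G - C γ * C fP * T.R i)
      - C (c 2) * C γ * (T.G + C gP * T.R i), ?_⟩
    rw [hR]
    linear_combination (- C (c 0) * T.F * (T.F + C fP * (C γ * T.F + C δ * T.G))
      - C (c 1) * (T.F * T.G + C fP * (C γ * T.F + C δ * T.G) * T.G)
      - C (c 2) * T.G * (T.G + C gP * (C γ * T.F + C δ * T.G))) * h1

/-- A derivation killing the generators of a field is zero. -/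
theorem derivation_eq_zero {s : Set L} (hs : adjoin k s = ⊤) (D : Derivation k L L) (h : ∀ x ∈ s, D x = 0) :
    D = 0 := by
  refine Derivation.ext fun x => ?_
  have hx : x ∈ adjoin k s := hs ▸ IntermediateField.mem_top
  induction hx using IntermediateField.adjoin_induction with
  | mem x hx => exact h x hx
  | algebraMap c => simp
  | add x y _ _ hx hy => simp [map_add, hx, hy]
  | inv x _ hx =>
    by_cases hx0 : x = 0
    · simp [hx0]
    · have h1 := congrArg D (mul_inv_cancel₀ hx0)
      rw [Derivation.leibniz, Derivation.map_one_eq_zero, hx, Derivation.zero_apply, smul_zero, add_zero,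
        smul_eq_zero] at h1
      exact h1.resolve_left hx0
  | mul x y _ _ hx hy => simp [Derivation.leibniz, hx, hy]

/-- The deformations as a linear map on derivations. -/
def Data.dvHom : (Ω[L⁄k] →ₗ[L] L) →ₗ[L] L[X] where
  toFun ψ := T.dv (ψ.compDer (KaehlerDifferential.D k L))
  map_add' ψ φ := by
    have : ∀ f : L[X], cm ((ψ + φ).compDer (KaehlerDifferential.D k L)) f =
        cm (ψ.compDer (KaehlerDifferential.D k L)) f + cm (φ.compDer (KaehlerDifferential.D k L)) f := fun f =>
      Polynomial.ext fun m => by rw [coeff_add, coeff_cm, coeff_cm, coeff_cm]; rfl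
    simp only [Data.dv, this]
    ring
  map_smul' c ψ := by
    have : ∀ f : L[X], cm ((c • ψ).compDer (KaehlerDifferential.D k L)) f =
        C c * cm (ψ.compDer (KaehlerDifferential.D k L)) f := fun f =>
      Polynomial.ext fun m => by rw [coeff_C_mul, coeff_cm, coeff_cm]; rfl
    simp only [Data.dv, this, RingHom.id_apply, smul_eq_C_mul]
    ring

variable (hgen : adjoin k (Set.range T.P ∪ Set.range T.F.coeff ∪ Set.range T.G.coeff) = ⊤)
  (hsum : (∑ i, e i) + 2 = 2 * d + n) (he2 : ∀ i, 2 ≤ e i) (hek : ∀ i, (e i : L) ≠ 0)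

include hgen hsum he2 hek in
/-- The bound on the differentials, refined by a linear condition on values. -/
theorem Data.finrank_kaehler_le [Module.Finite L Ω[L⁄k]] (U : Submodule L (Fin n → L))
    (hU : ∀ D : Derivation k L L, T.ev (T.dv D) ∈ U) (hUq : ∀ c, T.ev (T.quad c) ∈ U) :
    finrank L Ω[L⁄k] ≤ finrank L U := by
  have he : ∀ i, 1 ≤ e i := fun i => (he2 i).trans' one_le_two
  have hd := Data.one_le (e := e) hsum he
  obtain ⟨hfin, hle⟩ := T.finrank_inf_le hsum he U
  have hmem : ∀ D : Derivation k L L, T.dv D ∈ T.X := fun D => by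
    refine ⟨?_, fun i => ?_⟩
    · have := natDegree_cm_le D T.hF
      have := natDegree_cm_le D T.hG
      have := T.hF
      have := T.hG
      exact (natDegree_sub_le _ _).trans (max_le (natDegree_mul_le.trans (by omega))
        (natDegree_mul_le.trans (by omega)))
    · obtain ⟨lam, S, hS⟩ := T.dv_eq D i (he i)
      have hlam : (T.dv D).eval (T.P i) = lam := by
        rw [hS]
        simp [T.eval_R i, zero_pow (Nat.sub_ne_zero_of_lt (he2 i)), zero_pow (show e i ≠ 0 by have := he i; omega)]
      rw [hlam, hS]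
      refine ⟨C ((e i : L) * D (T.P i)) * T.R i * T.H i + (Polynomial.X - C (T.P i)) * S, ?_⟩
      obtain ⟨m, hm⟩ : ∃ m, e i = m + 1 := ⟨e i - 1, by have := he i; omega⟩
      rw [hm, Nat.add_sub_cancel]
      ring
  let Φ := (T.dvHom (k := k)).coprod T.quad
  have hinj : Function.Injective Φ := by
    refine (injective_iff_map_eq_zero _).2 fun x hx => ?_
    obtain ⟨ψ, c⟩ := x
    let D := ψ.compDer (KaehlerDifferential.D k L)
    have hx' : T.F * cm D T.G - T.G * cm D T.F +
        (C (c 0) * T.F ^ 2 + C (c 1) * (T.F * T.G) + C (c 2) * T.G ^ 2) = 0 := by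
      rw [← T.quad_apply]; exact hx
    have hdvd : T.F ∣ cm D T.F - C (c 2) * T.G := by
      refine T.hcop.dvd_of_dvd_mul_left ⟨cm D T.G + C (c 0) * T.F + C (c 1) * T.G, ?_⟩
      linear_combination -hx'
    obtain ⟨q, hq⟩ := hdvd
    have hFne : T.F ≠ 0 := fun h => by simpa [h] using T.hFa
    have hGq : cm D T.G + C (c 0) * T.F + C (c 1) * T.G = T.G * q :=
      mul_left_cancel₀ hFne (by linear_combination hx' + T.G * hq)
    have hqd : q.natDegree = 0 := by
      by_contra hq0
      have hqne : q ≠ 0 := fun h => hq0 (by simp [h])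
      have aux : ∀ A Q : L[X], A.coeff d ≠ 0 → A.natDegree ≤ d → Q.natDegree ≤ d → Q = A * q → False := by
        intro A Q hA hAd hQd hQ
        have h' := le_natDegree_of_ne_zero hA
        rw [hQ, natDegree_mul (fun h => hA (by simp [h])) hqne] at hQd
        omega
      rcases T.hlead with h | h
      · exact aux T.F _ h T.hF ((natDegree_sub_le _ _).trans (max_le (natDegree_cm_le D T.hF)
          ((natDegree_C_mul_le _ _).trans T.hG))) hq
      · exact aux T.G _ h T.hG ((natDegree_add_le _ _).trans (max_le ((natDegree_add_le _ _).trans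
          (max_le (natDegree_cm_le D T.hG) ((natDegree_C_mul_le _ _).trans T.hF)))
          ((natDegree_C_mul_le _ _).trans T.hG))) hGq
    rw [eq_C_of_natDegree_eq_zero hqd] at hq hGq
    have e1 := congrArg (fun f => coeff f T.a) hq
    have e2 := congrArg (fun f => coeff f T.b) hq
    have e3 := congrArg (fun f => coeff f T.a) hGq
    have e4 := congrArg (fun f => coeff f T.b) hGq
    simp only [coeff_sub, coeff_add, coeff_cm, coeff_C_mul, coeff_mul_C, T.hFa, T.hFb, T.hGa, T.hGb,
      Derivation.map_one_eq_zero, map_zero, mul_zero, mul_one, sub_zero, zero_sub, zero_mul, one_mul, add_zero,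
      zero_add] at e1 e2 e3 e4
    have hc2 : c 2 = 0 := neg_eq_zero.1 e2
    have hq0 : q.coeff 0 = 0 := e1.symm
    have hc0 : c 0 = 0 := e3
    have hc1 : c 1 = 0 := by rw [e4, hq0]
    rw [hq0, hc2] at hq
    rw [hq0, hc0, hc1] at hGq
    simp only [map_zero, zero_mul, mul_zero, sub_zero, add_zero] at hq hGq
    have hdv0 : T.dv D = 0 := by simp [Data.dv, hq, hGq]
    have hDP : ∀ i, D (T.P i) = 0 := by
      intro i
      obtain ⟨lam, S, hS⟩ := T.dv_eq D i (he i)
      rw [hdv0] at hS
      have hlam : lam = 0 := by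
        have := congrArg (Polynomial.eval (T.P i)) hS
        simpa [T.eval_R i, zero_pow (Nat.sub_ne_zero_of_lt (he2 i)),
          zero_pow (show e i ≠ 0 by have := he i; omega)] using this.symm
      obtain ⟨m, hm⟩ : ∃ m, e i = m + 1 := ⟨e i - 1, by have := he i; omega⟩
      rw [hlam, hm, Nat.add_sub_cancel, map_zero, zero_mul, zero_add, pow_succ] at hS
      have hz : C (((m + 1 : ℕ) : L) * D (T.P i)) * T.R i * T.H i + (Polynomial.X - C (T.P i)) * S = 0 :=
        mul_left_cancel₀ (pow_ne_zero m (X_sub_C_ne_zero (T.P i))) (by linear_combination -hS)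
      have hev := congrArg (Polynomial.eval (T.P i)) hz
      simp only [eval_add, eval_mul, eval_C, eval_sub, eval_X, eval_zero, T.eval_R i, sub_self, zero_mul,
        add_zero, mul_one] at hev
      have hne : ((m + 1 : ℕ) : L) ≠ 0 := hm ▸ hek i
      exact (mul_eq_zero.1 ((mul_eq_zero.1 hev).resolve_right (T.hH i))).resolve_left hne
    have hD0 : D = 0 := derivation_eq_zero hgen D (by
      rintro x ((⟨i, rfl⟩ | ⟨m, rfl⟩) | ⟨m, rfl⟩)
      · exact hDP i
      · rw [← coeff_cm, hq, coeff_zero]
      · rw [← coeff_cm, hGq, coeff_zero])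
    refine Prod.ext ?_ (funext fun i => by fin_cases i <;> assumption)
    refine LinearMap.ext_on_range (KaehlerDifferential.span_range_derivation k L) fun x => ?_
    exact congrArg (fun E : Derivation k L L => E x) hD0
  have hrange : ∀ x, Φ x ∈ T.X ⊓ U.comap T.ev := fun x =>
    add_mem (Submodule.mem_inf.2 ⟨hmem _, hU _⟩) (Submodule.mem_inf.2 ⟨T.quad_mem he _, hUq _⟩)
  have h := LinearMap.finrank_le_finrank_of_injective (f := Φ.codRestrict _ hrange)
    (hinj.codRestrict hrange)
  rw [Module.finrank_prod, finrank_fin_fun, Subspace.dual_finrank_eq] at h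
  omega

include hgen hsum he2 hek in
/-- At most as many parameters as points. -/
theorem Data.finrank_kaehler_le_card [Module.Finite L Ω[L⁄k]] : finrank L Ω[L⁄k] ≤ n := by
  have h := T.finrank_kaehler_le hgen hsum he2 hek ⊤ (fun _ => trivial) (fun _ => trivial)
  rwa [finrank_top, finrank_fin_fun] at h

include hgen hsum he2 hek in
/-- One parameter less when two points have the same image. -/
theorem Data.finrank_kaehler_lt_card [Module.Finite L Ω[L⁄k]] (i j : Fin n) (hij : i ≠ j)
    (hval : T.F.eval (T.P i) * T.G.eval (T.P j) = T.F.eval (T.P j) * T.G.eval (T.P i)) :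
    finrank L Ω[L⁄k] < n := by
  obtain ⟨γ, δ, hone⟩ := T.exists_unit_comb i
  set c := γ * T.F.eval (T.P j) + δ * T.G.eval (T.P j) with hc
  have hF : T.F.eval (T.P j) = c * T.F.eval (T.P i) := by
    rw [hc]; linear_combination -(T.F.eval (T.P j)) * hone - δ * hval
  have hG : T.G.eval (T.P j) = c * T.G.eval (T.P i) := by
    rw [hc]; linear_combination -(T.G.eval (T.P j)) * hone + γ * hval
  let ℓ : (Fin n → L) →ₗ[L] L := LinearMap.proj j - (c ^ 2) • LinearMap.proj i
  have hW : ∀ l, (derivative T.F * T.G - T.F * derivative T.G).eval (T.P l) = 0 := fun l => by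
    have h := congrArg (fun f => (derivative f).eval (T.P l)) (T.hram l)
    have h2 : e l - 1 ≠ 0 := by have := he2 l; omega
    have h3 : e l ≠ 0 := by have := he2 l; omega
    simp [derivative_mul, derivative_pow, zero_pow h2, zero_pow h3] at h
    simp only [eval_sub, eval_mul]
    linear_combination h
  have hU : ∀ D : Derivation k L L, T.ev (T.dv D) ∈ LinearMap.ker ℓ := fun D => by
    have hev : ∀ (f : L[X]) (x : L), (cm D f).eval x = D (f.eval x) - (derivative f).eval x * D x := by
      intro f x
      induction f using Polynomial.induction_on' with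
      | add p q hp hq => simp only [map_add, eval_add, hp, hq]; ring
      | monomial m a =>
        rw [cm_monomial, eval_monomial, eval_monomial, derivative_monomial, eval_monomial, Derivation.leibniz,
          Derivation.leibniz_pow]
        simp only [smul_eq_mul, nsmul_eq_mul]
        ring
    simp only [LinearMap.mem_ker, ℓ, Data.ev, LinearMap.sub_apply, LinearMap.smul_apply, LinearMap.proj_apply,
      LinearMap.pi_apply, leval_apply, smul_eq_mul, Data.dv, eval_sub, eval_mul, hev]
    have hi := hW i
    have hj := hW j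
    simp only [eval_sub, eval_mul] at hi hj
    rw [hF, hG] at hj ⊢
    rw [D.leibniz, D.leibniz]
    simp only [smul_eq_mul]
    linear_combination D (T.P j) * hj - c ^ 2 * D (T.P i) * hi
  have hUq : ∀ x, T.ev (T.quad x) ∈ LinearMap.ker ℓ := fun x => by
    simp only [LinearMap.mem_ker, ℓ, Data.ev, LinearMap.sub_apply, LinearMap.smul_apply, LinearMap.proj_apply,
      LinearMap.pi_apply, leval_apply, smul_eq_mul, T.quad_apply, eval_add, eval_mul, eval_C, eval_pow]
    rw [hF, hG]
    ring
  have h := T.finrank_kaehler_le hgen hsum he2 hek (LinearMap.ker ℓ) hU hUq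
  have h2 := Submodule.finrank_lt (s := LinearMap.ker ℓ) (fun htop => by
    have h1 : ℓ (Pi.single j 1) = 0 := LinearMap.congr_fun (LinearMap.ker_eq_top.1 htop) _
    simp [ℓ, hij] at h1)
  rw [finrank_fin_fun] at h2
  omega

end RamMapLib

end
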