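import Groth.Agent.RamMapLib.Deform
import Groth.Prelude.Def_W4c1limliniiiiRamP1

/-!
# Equations satisfied by all pencils with prescribed ramification at moving points
-/

set_option autoImplicit false

universe u

open Polynomial IntermediateField

noncomputable section

namespace RamMapLib

/-- The variables: coefficients, Bézout witnesses, quotients, inverses and points. -/
inductive Var (n d : ℕ) : Type
  | F (m : Fin (d + 1))
  | G (m : Fin (d + 1))
  | U (m : Fin (2 * d + 1))
  | W (m : Fin (2 * d + 1))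
  | Z (b : Bool)
  | H (i : Fin n) (m : Fin (d + 1))
  | Zh (i : Fin n)
  | Y (i j : Fin n)
  | P (i : Fin n)

variable {n d : ℕ} {S : Type u} [CommRing S]

/-- The polynomial with given coefficients. -/
def pk {N : ℕ} (f : Fin N → S) : S[X] := ∑ i : Fin N, monomial i.val (f i)

theorem pk_map {N : ℕ} {T : Type u} [CommRing T] (g : S →+* T) (f : Fin N → S) :
    (pk f).map g = pk (g ∘ f) := by
  simp [pk, Polynomial.map_sum]

theorem coeff_pk {N : ℕ} (f : Fin N → S) (m : ℕ) : (pk f).coeff m = if h : m < N then f ⟨m, h⟩ else 0 := by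
  simp only [pk, finsetSum_coeff, coeff_monomial]
  split
  · rename_i h
    rw [Finset.sum_eq_single (⟨m, h⟩ : Fin N) (fun i _ hi => if_neg fun h' => hi (Fin.ext h')) (by simp)]
    simp
  · rename_i h
    exact Finset.sum_eq_zero fun i _ => if_neg fun h' => h (by omega)

theorem natDegree_pk_le {N : ℕ} (f : Fin (N + 1) → S) : (pk f).natDegree ≤ N :=
  natDegree_le_iff_coeff_eq_zero.2 fun m hm => by rw [coeff_pk, dif_neg (by omega)]

theorem pk_coeff {N : ℕ} (f : S[X]) (hf : f.natDegree ≤ N) : pk (fun m : Fin (N + 1) => f.coeff m) = f :=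
  Polynomial.ext fun m => by
    rw [coeff_pk]
    split
    · rfl
    · exact (coeff_eq_zero_of_natDegree_lt (by omega)).symm

variable (e : Fin n → ℕ) (a b : Fin (d + 1)) (φ : Var n d → S)

/-- The pencil's first member. -/
def pF : S[X] := pk fun m => φ (.F m)
/-- The pencil's second member. -/
def pG : S[X] := pk fun m => φ (.G m)

/-- The equations defining normalised pencils with the ramification. -/
structure Sol : Prop where
  bez : pk (fun m => φ (.U m)) * pF φ + pk (fun m => φ (.W m)) * pG φ = 1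
  lead : φ (.Z true) * φ (.F (Fin.last d)) + φ (.Z false) * φ (.G (Fin.last d)) = 1
  hFa : φ (.F a) = 1
  hFb : φ (.F b) = 0
  hGa : φ (.G a) = 0
  hGb : φ (.G b) = 1
  ram : ∀ i, C ((pG φ).eval (φ (.P i))) * pF φ - C ((pF φ).eval (φ (.P i))) * pG φ =
    (X - C (φ (.P i))) ^ e i * pk (fun m => φ (.H i m))
  hH : ∀ i, φ (.Zh i) * (pk (fun m => φ (.H i m))).eval (φ (.P i)) = 1
  dist : ∀ i j, i ≠ j → φ (.Y i j) * (φ (.P i) - φ (.P j)) = 1

variable {e a b φ}

/-- The data of a solution in a field, over the subfield its coefficients generate. -/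
theorem Sol.exists_data {k : Type u} [Field k] {E : Type u} [Field E] [Algebra k E] {φ : Var n d → E}
    (h : Sol e a b φ) {L : IntermediateField k E}
    (hL : L = adjoin k (Set.range (fun i => φ (.P i)) ∪ Set.range (pF φ).coeff ∪ Set.range (pG φ).coeff)) :
    ∃ T : Data n d e L, (∀ i, (T.P i : E) = φ (.P i)) ∧ T.F.map L.val.toRingHom = pF φ ∧
      T.G.map L.val.toRingHom = pG φ ∧
      adjoin k (Set.range T.P ∪ Set.range T.F.coeff ∪ Set.range T.G.coeff) = ⊤ := by
  classical
  have hFm : ∀ m, (pF φ).coeff m ∈ L := fun m => hL ▸ subset_adjoin k _ (Or.inl (Or.inr ⟨m, rfl⟩))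
  have hGm : ∀ m, (pG φ).coeff m ∈ L := fun m => hL ▸ subset_adjoin k _ (Or.inr ⟨m, rfl⟩)
  have hPm : ∀ i, φ (.P i) ∈ L := fun i => hL ▸ subset_adjoin k _ (Or.inl (Or.inl ⟨i, rfl⟩))
  let ι := L.val.toRingHom
  have hι : Function.Injective ι := Subtype.val_injective
  obtain ⟨F, hF⟩ : ∃ F : L[X], F.map ι = pF φ := (mem_lifts _).1 ((lifts_iff_coeff_lifts _).2 fun m => ⟨⟨_, hFm m⟩, rfl⟩)
  obtain ⟨G, hG⟩ : ∃ G : L[X], G.map ι = pG φ := (mem_lifts _).1 ((lifts_iff_coeff_lifts _).2 fun m => ⟨⟨_, hGm m⟩, rfl⟩)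
  let P : Fin n → L := fun i => ⟨_, hPm i⟩
  have hcF : ∀ m, ι (F.coeff m) = (pF φ).coeff m := fun m => by rw [← hF, coeff_map]
  have hcG : ∀ m, ι (G.coeff m) = (pG φ).coeff m := fun m => by rw [← hG, coeff_map]
  have hpa : ∀ m : Fin (d + 1), (pF φ).coeff m = φ (.F m) := fun m => by
    rw [pF, coeff_pk, dif_pos m.isLt]
  have hpb : ∀ m : Fin (d + 1), (pG φ).coeff m = φ (.G m) := fun m => by
    rw [pG, coeff_pk, dif_pos m.isLt]
  have hex : ∀ i, ∃ H : L[X], C (G.eval (P i)) * F - C (F.eval (P i)) * G = (X - C (P i)) ^ e i * H ∧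
      H.eval (P i) ≠ 0 := by
    intro i
    have hmap : (C (G.eval (P i)) * F - C (F.eval (P i)) * G).map ι =
        (X - C (φ (.P i))) ^ e i * pk (fun m => φ (.H i m)) := by
      have e1 : ∀ f : L[X], ι (f.eval (P i)) = (f.map ι).eval (φ (.P i)) := fun f => (eval_map_apply ι (P i)).symm
      rw [Polynomial.map_sub, Polynomial.map_mul, Polynomial.map_mul, map_C, map_C, e1, e1, hF, hG]
      exact h.ram i
    have hdvd : (X - C (P i)) ^ e i ∣ C (G.eval (P i)) * F - C (F.eval (P i)) * G := by
      rw [← map_dvd_map ι hι ((monic_X_sub_C _).pow _), hmap]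
      simp only [Polynomial.map_pow, Polynomial.map_sub, map_X, map_C]
      exact dvd_mul_right _ _
    obtain ⟨H, hH⟩ := hdvd
    refine ⟨H, hH, fun h0 => ?_⟩
    have h1 := congrArg (Polynomial.map ι) hH
    rw [hmap, Polynomial.map_mul, Polynomial.map_pow, Polynomial.map_sub, map_X, map_C] at h1
    have h2 : pk (fun m => φ (.H i m)) = H.map ι :=
      mul_left_cancel₀ (pow_ne_zero _ (X_sub_C_ne_zero (φ (.P i)))) h1
    have h3 := h.hH i
    rw [h2, show φ (.P i) = ι (P i) from rfl, eval_map_apply, h0, map_zero, mul_zero] at h3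
    exact zero_ne_one h3
  choose H hH hH0 using hex
  refine ⟨{ F := F, G := G, P := P, H := H, a := a, b := b, hF := ?_, hG := ?_, hcop := ?_, hlead := ?_,
            hFa := ?_, hFb := ?_, hGa := ?_, hGb := ?_, hinj := ?_, hram := hH, hH := hH0 },
    fun i => rfl, hF, hG, ?_⟩
  · rw [← natDegree_map_eq_of_injective hι, hF]; exact natDegree_pk_le _
  · rw [← natDegree_map_eq_of_injective hι, hG]; exact natDegree_pk_le _
  · exact (Polynomial.isCoprime_map ι).1 (hF ▸ hG ▸ ⟨_, _, h.bez⟩)
  · by_contra hl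
    simp only [not_or, not_not] at hl
    have h1 := h.lead
    rw [← hpa, ← hpb, Fin.val_last, ← hcF, ← hcG, hl.1, hl.2] at h1
    simp at h1
  · exact hι (by rw [hcF, hpa, h.hFa, map_one])
  · exact hι (by rw [hcF, hpa, h.hFb, map_zero])
  · exact hι (by rw [hcG, hpb, h.hGa, map_zero])
  · exact hι (by rw [hcG, hpb, h.hGb, map_one])
  · intro i j hij
    by_contra hne
    have h1 := h.dist i j hne
    rw [show φ (.P i) = φ (.P j) from congrArg Subtype.val hij, sub_self, mul_zero] at h1
    exact zero_ne_one h1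
  · apply IntermediateField.map_injective L.val
    rw [adjoin_map, ← AlgHom.fieldRange_eq_map, fieldRange_val, Set.image_union, Set.image_union, ← Set.range_comp, ← Set.range_comp,
      ← Set.range_comp]
    simp only [Function.comp_def]
    conv_rhs => rw [hL]
    rw [← funext hcF, ← funext hcG]
    rfl

/-- In a field, `n + 1` independent parameters are impossible. -/
theorem not_algebraicIndependent {k : Type u} [Field k] {E : Type u} [Field E] [Algebra k E] {φ : Var n d → E}
    (h : Sol e a b φ) (hsum : (∑ i, e i) + 2 = 2 * d + n) (he2 : ∀ i, 2 ≤ e i) (hek : ∀ i, (e i : k) ≠ 0) :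
    (∀ v : Var n d, (∃ m, v = .F m ∨ v = .G m) →
      ¬ AlgebraicIndependent k (fun o : Option (Fin n) => φ (o.elim v .P))) ∧
    (∀ i j, i ≠ j → (pF φ).eval (φ (.P i)) * (pG φ).eval (φ (.P j)) = (pF φ).eval (φ (.P j)) * (pG φ).eval (φ (.P i)) →
      ¬ AlgebraicIndependent k (fun i => φ (.P i))) := by
  classical
  let L : IntermediateField k E :=
    adjoin k (Set.range (fun i => φ (.P i)) ∪ Set.range (pF φ).coeff ∪ Set.range (pG φ).coeff)
  obtain ⟨T, hTP, hTF, hTG, hgen⟩ := h.exists_data (L := L) rfl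
  have hfin : (Set.range (fun i => φ (.P i)) ∪ Set.range (pF φ).coeff ∪ Set.range (pG φ).coeff).Finite := by
    have hc : ∀ f : E[X], (Set.range f.coeff).Finite := fun f =>
      ((f.support.image f.coeff).finite_toSet.insert 0).subset (by
        rintro _ ⟨m, rfl⟩
        by_cases hm : f.coeff m = 0
        · exact Or.inl hm
        · exact Or.inr (Finset.mem_coe.2 (Finset.mem_image_of_mem _ (Polynomial.mem_support_iff.2 hm))))
    exact ((Set.finite_range _).union (hc _)).union (hc _)
  haveI : Algebra.EssFiniteType k L := IntermediateField.essFiniteType_iff.2 (fg_adjoin_of_finite hfin)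
  obtain ⟨hΩ, -, hineq⟩ := Groth.Agent.CartierIneqLib.finrank_ineq (k := k) k L
  haveI := hΩ
  have hekL : ∀ i, (e i : L) ≠ 0 := fun i => by
    rw [← map_natCast (algebraMap k L)]
    exact (_root_.map_ne_zero _).2 (hek i)
  have key : ∀ {ι : Type} [Fintype ι] (x : ι → L), AlgebraicIndependent k (fun i => (x i : E)) →
      Fintype.card ι ≤ Module.finrank L Ω[L⁄k] := by
    intro ι _ x hx
    have hx' : AlgebraicIndependent k x := AlgebraicIndependent.of_comp L.val hx
    have h1 := hx'.lift_cardinalMk_le_trdeg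
    have h2 : Algebra.trdeg k L < Cardinal.aleph0 := trdeg_lt_aleph0 k L
    have h3 := Cardinal.toNat_le_toNat h1 (Cardinal.lift_lt_aleph0.2 h2)
    simp only [Cardinal.toNat_lift, Cardinal.mk_fintype, Cardinal.toNat_natCast] at h3
    omega
  refine ⟨fun v hv hind => ?_, fun i j hij hval hind => ?_⟩
  · have hvL : φ v ∈ L := by
      obtain ⟨m, rfl | rfl⟩ := hv
      · exact subset_adjoin k _ (Or.inl (Or.inr ⟨m, by rw [pF, coeff_pk, dif_pos m.isLt]⟩))
      · exact subset_adjoin k _ (Or.inr ⟨m, by rw [pG, coeff_pk, dif_pos m.isLt]⟩)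
    have h1 := key (fun o : Option (Fin n) => o.elim (⟨φ v, hvL⟩ : L) T.P) (by
      convert hind using 1
      funext o
      cases o
      · rfl
      · exact hTP _)
    have h2 := T.finrank_kaehler_le_card hgen hsum he2 hekL
    simp at h1
    omega
  · have h1 := key T.P (by simpa only [hTP] using hind)
    have h2 := T.finrank_kaehler_lt_card hgen hsum he2 hekL i j hij (by
      apply Subtype.val_injective (p := fun x => x ∈ L)
      have e1 : ∀ (f : L[X]) (i : Fin n), ((f.eval (T.P i) : L) : E) = (f.map L.val.toRingHom).eval (φ (.P i)) :=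
        fun f i => by
          rw [← hTP i]
          exact (eval_map_apply (f := L.val.toRingHom) (T.P i)).symm
      simp only [MulMemClass.coe_mul, e1, hTF, hTG]
      exact hval)
    simp at h1
    omega

/-- The universal version: a field where all polynomial identities of a set of solutions hold. -/
theorem exists_relation {k : Type u} [Field k] (Z : Set (Var n d → k)) (hZ : ∀ φ ∈ Z, Sol e a b φ)
    {ι : Type} (x : ι → Var n d) {extra : Prop}
    (hno : ∀ (E : Type u) [Field E] [Algebra k E] (ψ : Var n d → E),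
      (∀ g : MvPolynomial (Var n d) k, (∀ φ ∈ Z, MvPolynomial.eval φ g = 0) → MvPolynomial.aeval ψ g = 0) →
      Sol e a b ψ → AlgebraicIndependent k (fun o => ψ (x o)) → extra)
    (hextra : ¬ extra) :
    ∃ g : MvPolynomial ι k, g ≠ 0 ∧ ∀ φ ∈ Z, MvPolynomial.eval (fun o => φ (x o)) g = 0 := by
  classical
  by_contra hcon
  let R := MvPolynomial (Var n d) k
  let I : Ideal R := ⨅ φ ∈ Z, RingHom.ker (MvPolynomial.eval φ)
  have hI : ∀ g, g ∈ I ↔ ∀ φ ∈ Z, MvPolynomial.eval φ g = 0 := fun g => by
    simp [I, Submodule.mem_iInf, RingHom.mem_ker]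
  let M : Submonoid R := (nonZeroDivisors (MvPolynomial ι k)).map
    (MvPolynomial.rename x : MvPolynomial ι k →ₐ[k] R)
  have hdisj : Disjoint (I : Set R) M := by
    rw [Set.disjoint_left]
    rintro _ hgI ⟨g, hg, rfl⟩
    refine hcon ⟨g, nonZeroDivisors.ne_zero hg, fun φ hφ => ?_⟩
    have := (hI _).1 hgI φ hφ
    rwa [MvPolynomial.eval_rename] at this
  obtain ⟨q, hqp, hIq, hqM⟩ := Ideal.exists_le_prime_disjoint I M hdisj
  haveI := hqp
  let E := FractionRing (R ⧸ q)
  let π : R →+* E := (algebraMap (R ⧸ q) E).comp (Ideal.Quotient.mk q)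
  let ψ : Var n d → E := fun v => π (MvPolynomial.X v)
  have hπ : ∀ g, MvPolynomial.aeval ψ g = π g := fun g => by
    have : MvPolynomial.aeval ψ = IsScalarTower.toAlgHom k R E := MvPolynomial.algHom_ext fun v => by
      rw [MvPolynomial.aeval_X]
      rfl
    rw [this]
    rfl
  have hker : ∀ g, g ∈ I → π g = 0 := fun g hg => by
    show algebraMap (R ⧸ q) E (Ideal.Quotient.mk q g) = 0
    rw [Ideal.Quotient.eq_zero_iff_mem.2 (hIq hg), map_zero]
  have hvan : ∀ g : R, (∀ φ ∈ Z, MvPolynomial.eval φ g = 0) → MvPolynomial.aeval ψ g = 0 := fun g hg => by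
    rw [hπ]; exact hker g ((hI g).2 hg)
  let U : Var n d → R := MvPolynomial.X
  have hp : ∀ A B : R[X], (∀ φ ∈ Z, A.map (MvPolynomial.eval φ) = B.map (MvPolynomial.eval φ)) →
      A.map π = B.map π := fun A B hAB => Polynomial.ext fun m => by
    rw [coeff_map, coeff_map, ← sub_eq_zero, ← map_sub]
    refine hker _ ((hI _).2 fun φ hφ => ?_)
    rw [map_sub, ← coeff_map, ← coeff_map, hAB φ hφ, sub_self]
  have hs : ∀ A B : R, (∀ φ ∈ Z, MvPolynomial.eval φ A = MvPolynomial.eval φ B) → π A = π B := fun A B hAB => by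
    rw [← sub_eq_zero, ← map_sub]
    exact hker _ ((hI _).2 fun φ hφ => by rw [map_sub, hAB φ hφ, sub_self])
  have hFm : ∀ {T : Type u} [CommRing T] (g : R →+* T), (pF U).map g = pF (g ∘ U) :=
    fun {T} _ g => by simp only [pF, pk_map]; rfl
  have hGm : ∀ {T : Type u} [CommRing T] (g : R →+* T), (pG U).map g = pG (g ∘ U) :=
    fun {T} _ g => by simp only [pG, pk_map]; rfl
  have hev : ∀ φ : Var n d → k, (MvPolynomial.eval φ) ∘ U = φ := fun φ => funext fun v => MvPolynomial.eval_X v
  have hsol : Sol e a b ψ := by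
    refine ⟨?_, ?_, ?_, ?_, ?_, ?_, fun i => ?_, fun i => ?_, fun i j hij => ?_⟩
    · have := hp (pk (fun m => U (.U m)) * pF U + pk (fun m => U (.W m)) * pG U) 1 fun φ hφ => by
        simp only [Polynomial.map_add, Polynomial.map_mul, Polynomial.map_one, hFm, hGm, pk_map, hev]
        simpa only [Function.comp_def, U, MvPolynomial.eval_X] using (hZ φ hφ).bez
      simp only [Polynomial.map_add, Polynomial.map_mul, Polynomial.map_one, hFm, hGm, pk_map] at this
      exact this
    · have := hs (U (.Z true) * U (.F (Fin.last d)) + U (.Z false) * U (.G (Fin.last d))) 1 fun φ hφ => by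
        simpa [U] using (hZ φ hφ).lead
      simpa only [map_add, map_mul, map_one] using this
    · simpa only [map_one] using hs (U (.F a)) 1 fun φ hφ => by simpa [U] using (hZ φ hφ).hFa
    · simpa only [map_zero] using hs (U (.F b)) 0 fun φ hφ => by simpa [U] using (hZ φ hφ).hFb
    · simpa only [map_zero] using hs (U (.G a)) 0 fun φ hφ => by simpa [U] using (hZ φ hφ).hGa
    · simpa only [map_one] using hs (U (.G b)) 1 fun φ hφ => by simpa [U] using (hZ φ hφ).hGb
    · have e2 : ∀ {T : Type u} [CommRing T] (g : R →+* T) (A : R[X]) (x : R), g (A.eval x) = (A.map g).eval (g x) :=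
        fun g A x => (eval_map_apply g x).symm
      have := hp (C ((pG U).eval (U (.P i))) * pF U - C ((pF U).eval (U (.P i))) * pG U)
          ((X - C (U (.P i))) ^ e i * pk (fun m => U (.H i m))) fun φ hφ => by
        rw [Polynomial.map_sub, Polynomial.map_mul, Polynomial.map_mul, Polynomial.map_mul, map_C, map_C, e2, e2,
          hFm, hGm, hev, Polynomial.map_pow, Polynomial.map_sub, map_X, map_C, pk_map,
          show (MvPolynomial.eval φ) (U (.P i)) = φ (.P i) from MvPolynomial.eval_X _,
          show (⇑(MvPolynomial.eval φ) ∘ fun m => U (.H i m)) = fun m => φ (.H i m) from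
            funext fun m => MvPolynomial.eval_X _]
        exact (hZ φ hφ).ram i
      rw [Polynomial.map_sub, Polynomial.map_mul, Polynomial.map_mul, Polynomial.map_mul, map_C, map_C, e2, e2,
        hFm, hGm, Polynomial.map_pow, Polynomial.map_sub, map_X, map_C, pk_map] at this
      exact this
    · have := hs (U (.Zh i) * (pk (fun m => U (.H i m))).eval (U (.P i))) 1 fun φ hφ => by
        rw [map_mul, ← eval_map_apply, pk_map, map_one]
        simpa only [Function.comp_def, U, MvPolynomial.eval_X] using (hZ φ hφ).hH i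
      rw [map_mul, ← eval_map_apply, pk_map, map_one] at this
      exact this
    · have := hs (U (.Y i j) * (U (.P i) - U (.P j))) 1 fun φ hφ => by simpa [U] using (hZ φ hφ).dist i j hij
      simpa only [map_mul, map_sub, map_one] using this
  refine hextra (hno E ψ hvan hsol ((algebraicIndependent_iff).2 fun g hg => ?_))
  by_contra hg0
  rw [show (fun o => ψ (x o)) = ψ ∘ x from rfl, ← MvPolynomial.aeval_rename, hπ] at hg
  have hmem : MvPolynomial.rename x g ∈ q :=
    Ideal.Quotient.eq_zero_iff_mem.1 ((IsFractionRing.injective (R ⧸ q) E) (hg.trans (map_zero _).symm))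
  exact Set.disjoint_left.1 hqM hmem ⟨g, mem_nonZeroDivisors_of_ne_zero hg0, rfl⟩

/-- Coordinates are algebraic over the points, and two points have different images. -/
theorem exists_equations {k : Type u} [Field k] (hsum : (∑ i, e i) + 2 = 2 * d + n) (he2 : ∀ i, 2 ≤ e i)
    (hek : ∀ i, (e i : k) ≠ 0) :
    (∀ v : Var n d, (∃ m, v = .F m ∨ v = .G m) → ∃ g : MvPolynomial (Option (Fin n)) k, g ≠ 0 ∧
      ∀ φ : Var n d → k, Sol e a b φ → MvPolynomial.eval (fun o : Option (Fin n) => φ (o.elim v .P)) g = 0) ∧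
    (∀ i j, i ≠ j → ∃ g : MvPolynomial (Fin n) k, g ≠ 0 ∧
      ∀ φ : Var n d → k, Sol e a b φ →
        (pF φ).eval (φ (.P i)) * (pG φ).eval (φ (.P j)) = (pF φ).eval (φ (.P j)) * (pG φ).eval (φ (.P i)) →
        MvPolynomial.eval (fun i => φ (.P i)) g = 0) := by
  refine ⟨fun v hv => ?_, fun i j hij => ?_⟩
  · exact exists_relation {φ | Sol e a b φ} (fun φ hφ => hφ) (fun o : Option (Fin n) => o.elim v .P)
      (extra := False) (fun E _ _ ψ _ hψ hind => (not_algebraicIndependent hψ hsum he2 hek).1 v hv hind) id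
  · obtain ⟨g, hg0, hg⟩ := exists_relation
      {φ : Var n d → k | Sol e a b φ ∧
        (pF φ).eval (φ (.P i)) * (pG φ).eval (φ (.P j)) = (pF φ).eval (φ (.P j)) * (pG φ).eval (φ (.P i))}
      (fun φ hφ => hφ.1) (fun i : Fin n => (Var.P i : Var n d)) (extra := False)
      (fun E _ _ ψ hvan hψ hind => (not_algebraicIndependent hψ hsum he2 hek).2 i j hij (by
        let U : Var n d → MvPolynomial (Var n d) k := MvPolynomial.X
        have h := hvan ((pF U).eval (U (.P i)) * (pG U).eval (U (.P j)) - (pF U).eval (U (.P j)) * (pG U).eval (U (.P i)))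
          fun φ hφ => by
            simp only [map_sub, map_mul, ← eval_map_apply, pF, pG, pk_map, sub_eq_zero]
            simpa only [Function.comp_def, U, MvPolynomial.eval_X, pF, pG] using hφ.2
        simp only [map_sub, map_mul, sub_eq_zero] at h
        have e1 : ∀ (f : (MvPolynomial (Var n d) k)[X]) (l : Fin n),
            MvPolynomial.aeval ψ (f.eval (U (.P l))) =
              (f.map (MvPolynomial.aeval ψ : MvPolynomial (Var n d) k →ₐ[k] E).toRingHom).eval (ψ (.P l)) := fun f l => by
          rw [show ψ (.P l) = (MvPolynomial.aeval ψ : MvPolynomial (Var n d) k →ₐ[k] E).toRingHom (U (.P l)) from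
            (MvPolynomial.aeval_X ψ _).symm, eval_map_apply]
          rfl
        simp only [e1, pF, pG, pk_map] at h
        simpa only [Function.comp_def, U, AlgHom.toRingHom_eq_coe, RingHom.coe_coe, MvPolynomial.aeval_X, pF, pG] using h)
        hind) id
    exact ⟨g, hg0, fun φ hφ hval => hg φ ⟨hφ, hval⟩⟩

end RamMapLib

end
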