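import Groth.Agent.RamMapLib.Generic
import Mathlib.RingTheory.Valuation.LocalSubring
import Mathlib.FieldTheory.IsAlgClosed.Basic

/-!
# Finiteness of pencils with given ramification when the Wronskian map has no base locus
-/

set_option autoImplicit false

universe u

open Polynomial

noncomputable section

namespace RamMapLib

theorem wronskian_map {R S : Type u} [CommRing R] [CommRing S] (g : R →+* S) (f h : R[X]) :
    (wronskian f h).map g = wronskian (f.map g) (h.map g) := by
  simp [wronskian, derivative_map]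

theorem coeff_X_mul_derivative {R : Type u} [CommRing R] (f : R[X]) (m : ℕ) :
    (X * derivative f).coeff m = (m : R) * f.coeff m := by
  cases m with
  | zero => simp
  | succ m => rw [coeff_X_mul, coeff_derivative]; push_cast; ring

theorem natDegree_X_mul_derivative_le {R : Type u} [CommRing R] {f : R[X]} {d : ℕ} (hf : f.natDegree ≤ d) :
    (X * derivative f).natDegree ≤ d :=
  natDegree_le_iff_coeff_eq_zero.2 fun m hm => by
    rw [coeff_X_mul_derivative, coeff_eq_zero_of_natDegree_lt (lt_of_le_of_lt hf hm), mul_zero]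

theorem coeff_X_mul_wronskian {R : Type u} [CommRing R] {f g : R[X]} {i j : ℕ} (hf : f.natDegree ≤ i)
    (hg : g.natDegree ≤ j) :
    (X * wronskian f g).coeff (i + j) = ((j : R) - i) * (f.coeff i * g.coeff j) := by
  rw [wronskian, show X * (f * derivative g - derivative f * g) = f * (X * derivative g) - X * derivative f * g by ring,
    coeff_sub, coeff_mul_add_eq_of_natDegree_le hf (natDegree_X_mul_derivative_le hg),
    coeff_mul_add_eq_of_natDegree_le (natDegree_X_mul_derivative_le hf) hg, coeff_X_mul_derivative,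
    coeff_X_mul_derivative]
  ring

/-- Two normalised polynomials of small degree have non-zero Wronskian. -/
theorem wronskian_ne_zero {K : Type u} [Field K] {d : ℕ} (hchar : ∀ j, 1 ≤ j → j ≤ d → (j : K) ≠ 0) {F G : K[X]}
    {a b : ℕ} (hF : F.natDegree ≤ d) (hG : G.natDegree ≤ d) (hFa : F.coeff a = 1) (hGa : G.coeff a = 0)
    (hGb : G.coeff b = 1) : wronskian F G ≠ 0 := by
  intro hW
  set i := F.natDegree with hi
  have hFi : F.coeff i ≠ 0 := leadingCoeff_ne_zero.2 fun h => by simp [h] at hFa
  set g := G - C (G.coeff i / F.coeff i) * F with hg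
  have hWg : wronskian F g = 0 := by
    have h2 : derivative g = derivative G - C (G.coeff i / F.coeff i) * derivative F := by
      rw [hg, derivative_sub, derivative_C_mul]
    rw [wronskian, h2, hg]
    rw [wronskian] at hW
    linear_combination hW
  have hgd : g.natDegree ≤ d := (natDegree_sub_le _ _).trans (max_le hG ((natDegree_C_mul_le _ _).trans hF))
  have hgi : g.coeff i = 0 := by rw [hg, coeff_sub, coeff_C_mul, div_mul_cancel₀ _ hFi, sub_self]
  by_cases hg0 : g = 0
  · have h1 := congrArg (fun f => coeff f a) hg0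
    simp [hg, hFa, hGa] at h1
    rcases h1 with h1 | h1
    · rw [hg, h1] at hg0
      simp at hg0
      simp [hg0] at hGb
    · exact hFi h1
  · set j := g.natDegree with hj
    have hgj : g.coeff j ≠ 0 := leadingCoeff_ne_zero.2 hg0
    have hij : i ≠ j := fun h => hgj (h ▸ hgi)
    have hne : ((j : K) - i) ≠ 0 := by
      rcases lt_or_gt_of_ne hij with h | h
      · rw [← Nat.cast_sub h.le]; exact hchar _ (by omega) (by omega)
      · rw [← neg_ne_zero, neg_sub, ← Nat.cast_sub h.le]; exact hchar _ (by omega) (by omega)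
    have h1 := coeff_X_mul_wronskian (f := F) (g := g) (i := i) (j := j) le_rfl le_rfl
    rw [hWg, mul_zero, coeff_zero] at h1
    exact mul_ne_zero hne (mul_ne_zero hFi hgj) h1.symm

theorem natDegree_wronskian_le {K : Type u} [Field K] {d : ℕ} {F G : K[X]} (hF : F.natDegree ≤ d)
    (hG : G.natDegree ≤ d) : (wronskian F G).natDegree ≤ 2 * d - 2 := by
  by_cases hW : wronskian F G = 0
  · simp [hW]
  have hlt := natDegree_wronskian_lt_add hW
  refine natDegree_le_iff_coeff_eq_zero.2 fun m hm => ?_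
  rcases lt_or_ge m (2 * d - 1) with h | h
  · omega
  rcases eq_or_lt_of_le h with h | h
  · have h1 := coeff_X_mul_wronskian hF hG
    rw [sub_self, zero_mul, show d + d = m + 1 by omega, coeff_X_mul] at h1
    exact h1
  · exact coeff_eq_zero_of_natDegree_lt (by omega)

theorem pow_pred_dvd_wronskian_left {K : Type u} [Field K] {p : K} {m : ℕ} {q r : K[X]}
    (h : (X - C p) ^ m ∣ q) : (X - C p) ^ (m - 1) ∣ wronskian q r :=
  dvd_sub ((((pow_dvd_pow _ (Nat.sub_le m 1)).trans h)).mul_right _)
    ((Polynomial.pow_sub_one_dvd_derivative_of_pow_dvd h).mul_right _)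

variable {n d : ℕ} {e : Fin n → ℕ} {a b : Fin (d + 1)}

/-- The Wronskian of a solution is a multiple of the polynomial prescribed by the ramification. -/
theorem Sol.exists_wronskian_eq {K : Type u} [Field K] {φ : Var n d → K} (h : Sol e a b φ)
    (hsum : (∑ i, e i) + 2 = 2 * d + n) (he : ∀ i, 1 ≤ e i) :
    ∃ c : K, wronskian (pF φ) (pG φ) = C c * ∏ i, (X - C (φ (.P i))) ^ (e i - 1) := by
  classical
  have hP : Function.Injective fun i => φ (.P i) := fun i j hij => by
    by_contra hne
    have h1 := h.dist i j hne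
    rw [show φ (.P i) = φ (.P j) from hij, sub_self, mul_zero] at h1
    exact zero_ne_one h1
  have hdvd : ∏ i, (X - C (φ (.P i))) ^ (e i - 1) ∣ wronskian (pF φ) (pG φ) := by
    refine Fintype.prod_dvd_of_coprime (fun i j hij => (Polynomial.pairwise_coprime_X_sub_C hP hij).pow) fun i => ?_
    set p := φ (.P i) with hp
    have hone := congrArg (Polynomial.eval p) h.bez
    simp only [eval_add, eval_mul, eval_one] at hone
    have hone' : C ((pk fun m => φ (.U m)).eval p) * C ((pF φ).eval p) +
        C ((pk fun m => φ (.W m)).eval p) * C ((pG φ).eval p) = (1 : K[X]) := by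
      rw [← map_mul, ← map_mul, ← map_add, hone, map_one]
    obtain ⟨S, hS⟩ := pow_pred_dvd_wronskian_left (r := pG φ) (Dvd.intro _ (h.ram i).symm)
    obtain ⟨T, hT⟩ := pow_pred_dvd_wronskian_left (r := pF φ) (Dvd.intro _ (h.ram i).symm)
    refine ⟨C ((pk fun m => φ (.W m)).eval p) * S + C ((pk fun m => φ (.U m)).eval p) * T, ?_⟩
    simp only [wronskian, derivative_sub, derivative_C_mul] at hS hT ⊢
    linear_combination C ((pk fun m => φ (.W m)).eval p) * hS + C ((pk fun m => φ (.U m)).eval p) * hT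
      - (pF φ * derivative (pG φ) - derivative (pF φ) * pG φ) * hone'
  obtain ⟨q, hq⟩ := hdvd
  refine ⟨q.coeff 0, ?_⟩
  rw [hq, mul_comm]
  congr 1
  refine eq_C_of_natDegree_eq_zero ?_
  by_cases hq0 : q = 0
  · simp [hq0]
  have hdeg : (∏ i, (X - C (φ (.P i))) ^ (e i - 1)).natDegree = 2 * d - 2 := by
    rw [natDegree_prod _ _ fun i _ => pow_ne_zero _ (X_sub_C_ne_zero _)]
    simp only [natDegree_pow, natDegree_X_sub_C, mul_one]
    have h2 : ∑ i, (e i - 1) + ∑ _i : Fin n, 1 = ∑ i, e i := by
      rw [← Finset.sum_add_distrib]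
      exact Finset.sum_congr rfl fun i _ => Nat.sub_add_cancel (he i)
    simp at h2
    omega
  have h1 := natDegree_wronskian_le (F := pF φ) (G := pG φ) (d := d) (natDegree_pk_le _) (natDegree_pk_le _)
  rw [hq, natDegree_mul (Finset.prod_ne_zero_iff.2 fun i _ => pow_ne_zero _ (X_sub_C_ne_zero _)) hq0, hdeg] at h1
  omega

theorem mem_range_of_forall_valuationSubring {k : Type u} [Field k] [IsAlgClosed k] {E : Type u} [Field E]
    [Algebra k E] {x : E} (h : ∀ O : ValuationSubring E, (∀ r : k, algebraMap k E r ∈ O) → x ∈ O) :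
    x ∈ (algebraMap k E).range := by
  by_contra hx
  haveI : IsIntegrallyClosedIn (algebraMap k E).range E := Subring.isIntegrallyClosedIn_iff.2 fun {y} hy => by
    obtain ⟨p, hp, hpy⟩ := hy
    obtain ⟨q, hq, -, hqm⟩ := lifts_and_degree_eq_and_monic
      ((lifts_iff_coeff_lifts (f := (algebraMap k E).rangeRestrict) p).2 fun m =>
        (algebraMap k E).rangeRestrict_surjective _) hp
    have hy' : IsIntegral k y := ⟨q, hqm, by
      rw [← hq, eval₂_map] at hpy
      exact hpy⟩
    exact minpoly.mem_range_of_degree_eq_one k y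
      (IsAlgClosed.degree_eq_one_of_irreducible k (minpoly.irreducible hy'))
  obtain ⟨V, hV, hxV⟩ := Subring.exists_le_valuationSubring_of_isIntegrallyClosedIn hx
  exact hxV (h V fun r => hV ⟨r, rfl⟩)

/-- With fixed points, solutions in extension fields have coefficients in the base field. -/
theorem Sol.mem_range {k : Type u} [Field k] [IsAlgClosed k] {E : Type u} [Field E] [Algebra k E]
    {φ : Var n d → E} (h : Sol e a b φ) (hsum : (∑ i, e i) + 2 = 2 * d + n) (he : ∀ i, 1 ≤ e i)
    (hchar : ∀ j, 1 ≤ j → j ≤ d → (j : k) ≠ 0) (P : Fin n → k) (hP : ∀ i, φ (.P i) = algebraMap k E (P i))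
    (v : Var n d) (hv : ∃ m, v = .F m ∨ v = .G m) : φ v ∈ (algebraMap k E).range := by
  classical
  obtain ⟨c, hc⟩ := h.exists_wronskian_eq hsum he
  set F := pF φ with hFdef
  set G := pG φ with hGdef
  have hF : F.natDegree ≤ d := natDegree_pk_le _
  have hG : G.natDegree ≤ d := natDegree_pk_le _
  have hpa : ∀ m : Fin (d + 1), F.coeff m = φ (.F m) := fun m => by rw [hFdef, pF, coeff_pk, dif_pos m.isLt]
  have hpb : ∀ m : Fin (d + 1), G.coeff m = φ (.G m) := fun m => by rw [hGdef, pG, coeff_pk, dif_pos m.isLt]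
  have hcharE : ∀ {K : Type u} [Field K], (k →+* K) → ∀ j, 1 ≤ j → j ≤ d → (j : K) ≠ 0 := fun g j h1 h2 => by
    rw [← map_natCast g]; exact (_root_.map_ne_zero g).2 (hchar j h1 h2)
  have hFa : F.coeff a = 1 := (hpa a).trans h.hFa
  have hFb : F.coeff b = 0 := (hpa b).trans h.hFb
  have hGa : G.coeff a = 0 := (hpb a).trans h.hGa
  have hGb : G.coeff b = 1 := (hpb b).trans h.hGb
  have hc0 : c ≠ 0 := fun h0 => wronskian_ne_zero (hcharE (algebraMap k E)) hF hG hFa hGa hGb
    (by rw [hc, h0, map_zero, zero_mul])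
  let R₀ : k[X] := ∏ i, (X - C (P i)) ^ (e i - 1)
  have hR : ∏ i, (X - C (φ (.P i))) ^ (e i - 1) = R₀.map (algebraMap k E) := by
    simp [R₀, Polynomial.map_prod, hP]
  let p : ℕ → ℕ → E := fun m l => F.coeff m * G.coeff l - F.coeff l * G.coeff m
  suffices key : ∀ O : ValuationSubring E, (∀ r : k, algebraMap k E r ∈ O) →
      ∀ m l : Fin (d + 1), p m l / c ∈ O by
    obtain ⟨r₁, hr₁⟩ := mem_range_of_forall_valuationSubring (k := k) (x := p a b / c) fun O hO => key O hO a b
    have hr₁' : algebraMap k E r₁ = c⁻¹ := by rw [hr₁]; simp [p, hFa, hFb, hGa, hGb]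
    obtain ⟨m, rfl | rfl⟩ := hv
    · obtain ⟨r, hr⟩ := mem_range_of_forall_valuationSubring (k := k) (x := p m b / c) fun O hO => key O hO m b
      refine ⟨r / r₁, ?_⟩
      rw [map_div₀, hr, hr₁']
      simp [p, hFb, hGb, hpa, div_div, hc0]
    · obtain ⟨r, hr⟩ := mem_range_of_forall_valuationSubring (k := k) (x := p a m / c) fun O hO => key O hO a m
      refine ⟨r / r₁, ?_⟩
      rw [map_div₀, hr, hr₁']
      simp [p, hFa, hGa, hpb, div_div, hc0]
  intro O hO m l
  obtain ⟨⟨m0, n0⟩, -, hmax⟩ := (Finset.univ : Finset (Fin (d + 1) × Fin (d + 1))).exists_max_image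
    (fun x => O.valuation (p x.1 x.2)) Finset.univ_nonempty
  set p0 := p m0 n0 with hp0
  have hp0ne : p0 ≠ 0 := fun h0 => by
    have h1 := hmax (a, b) (Finset.mem_univ _)
    rw [h0, map_zero, le_zero_iff, Valuation.zero_iff] at h1
    simp [p, hFa, hFb, hGa, hGb] at h1
  suffices hle : O.valuation p0 ≤ O.valuation c by
    rw [← O.valuation_le_one_iff, map_div₀]
    exact div_le_one_of_le₀ ((hmax (m, l) (Finset.mem_univ _)).trans hle) zero_le
  by_contra hlt
  rw [not_le] at hlt
  have hdivmem : ∀ i j : ℕ, p i j / p0 ∈ O := fun i j => by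
    rw [← O.valuation_le_one_iff, map_div₀]
    refine div_le_one_of_le₀ ?_ zero_le
    have hbig : ∀ i, d < i → F.coeff i = 0 ∧ G.coeff i = 0 := fun i hi =>
      ⟨coeff_eq_zero_of_natDegree_lt (by omega), coeff_eq_zero_of_natDegree_lt (by omega)⟩
    by_cases hi : d < i
    · simp [p, (hbig i hi).1, (hbig i hi).2]
    by_cases hj : d < j
    · simp [p, (hbig j hj).1, (hbig j hj).2]
    exact hmax (⟨i, by omega⟩, ⟨j, by omega⟩) (Finset.mem_univ _)
  set F' := C (G.coeff n0 / p0) * F - C (F.coeff n0 / p0) * G with hF'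
  set G' := C (F.coeff m0 / p0) * G - C (G.coeff m0 / p0) * F with hG'
  have hcF' : ∀ i, F'.coeff i = p i n0 / p0 := fun i => by
    rw [hF', coeff_sub, coeff_C_mul, coeff_C_mul]; simp only [p]; ring
  have hcG' : ∀ i, G'.coeff i = p m0 i / p0 := fun i => by
    rw [hG', coeff_sub, coeff_C_mul, coeff_C_mul]; simp only [p]; ring
  have hF'd : F'.natDegree ≤ d :=
    (natDegree_sub_le _ _).trans (max_le ((natDegree_C_mul_le _ _).trans hF) ((natDegree_C_mul_le _ _).trans hG))
  have hG'd : G'.natDegree ≤ d :=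
    (natDegree_sub_le _ _).trans (max_le ((natDegree_C_mul_le _ _).trans hG) ((natDegree_C_mul_le _ _).trans hF))
  have hW' : wronskian F' G' = C (c / p0) * R₀.map (algebraMap k E) := by
    have hdet : G.coeff n0 / p0 * (F.coeff m0 / p0) - F.coeff n0 / p0 * (G.coeff m0 / p0) = p0⁻¹ := by
      field_simp
      rw [hp0]; simp only [p]; ring
    rw [← hR, div_eq_inv_mul c p0, map_mul, ← hdet, mul_assoc, ← hc, hF', hG']
    simp only [wronskian, derivative_sub, derivative_C_mul, map_sub, map_mul]
    ring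
  let g : k →+* O := (algebraMap k E).codRestrict O.toSubring hO
  obtain ⟨Fo, hFo⟩ : ∃ f : Polynomial O, f.map O.subtype = F' := (mem_lifts _).1
    ((lifts_iff_coeff_lifts _).2 fun i => ⟨⟨_, hdivmem i n0⟩, (hcF' i).symm⟩)
  obtain ⟨Go, hGo⟩ : ∃ f : Polynomial O, f.map O.subtype = G' := (mem_lifts _).1
    ((lifts_iff_coeff_lifts _).2 fun i => ⟨⟨_, hdivmem m0 i⟩, (hcG' i).symm⟩)
  have hι : Function.Injective O.subtype := Subtype.val_injective
  have hcO : c / p0 ∈ O := by
    rw [← O.valuation_le_one_iff, map_div₀]; exact div_le_one_of_le₀ hlt.le zero_le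
  have hWo : wronskian Fo Go = C (⟨c / p0, hcO⟩ : O) * R₀.map g := by
    apply Polynomial.map_injective _ hι
    rw [wronskian_map, hFo, hGo, hW', Polynomial.map_mul, map_C, Polynomial.map_map]
    rfl
  have hcmax : IsLocalRing.residue O (⟨c / p0, hcO⟩ : O) = 0 := by
    rw [IsLocalRing.residue_eq_zero_iff, IsLocalRing.mem_maximalIdeal, mem_nonunits_iff,
      ValuationSubring.valuation_eq_one_iff, map_div₀, div_eq_one_iff_eq ((_root_.map_ne_zero _).2 hp0ne)]
    exact hlt.ne
  have hW0 := congrArg (Polynomial.map (IsLocalRing.residue O)) hWo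
  rw [wronskian_map, Polynomial.map_mul, map_C, hcmax, map_zero, zero_mul] at hW0
  refine wronskian_ne_zero (a := m0) (b := n0) (hcharE ((IsLocalRing.residue O).comp g)) ?_ ?_ ?_ ?_ ?_ hW0
  · exact natDegree_map_le.trans (by rw [← natDegree_map_eq_of_injective hι, hFo]; exact hF'd)
  · exact natDegree_map_le.trans (by rw [← natDegree_map_eq_of_injective hι, hGo]; exact hG'd)
  · have h1 : Fo.coeff m0 = 1 := hι (by
      rw [← coeff_map, hFo, hcF', map_one]; exact div_self hp0ne)
    rw [coeff_map, h1, map_one]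
  · have h1 : Go.coeff m0 = 0 := hι (by
      rw [← coeff_map, hGo, hcG', map_zero]; simp [p])
    rw [coeff_map, h1, map_zero]
  · have h1 : Go.coeff n0 = 1 := hι (by
      rw [← coeff_map, hGo, hcG', map_one]; exact div_self hp0ne)
    rw [coeff_map, h1, map_one]

/-- With fixed points, each coordinate takes finitely many values. -/
theorem finite_values {k : Type u} [Field k] [IsAlgClosed k] (hsum : (∑ i, e i) + 2 = 2 * d + n)
    (he : ∀ i, 1 ≤ e i) (hchar : ∀ j, 1 ≤ j → j ≤ d → (j : k) ≠ 0) (P : Fin n → k) (v : Var n d)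
    (hv : ∃ m, v = .F m ∨ v = .G m) :
    {x : k | ∃ φ : Var n d → k, Sol e a b φ ∧ (∀ i, φ (.P i) = P i) ∧ φ v = x}.Finite := by
  obtain ⟨g, hg0, hg⟩ := exists_relation {φ : Var n d → k | Sol e a b φ ∧ ∀ i, φ (.P i) = P i} (fun φ hφ => hφ.1)
    (fun _ : Unit => v) (extra := False) (fun E _ _ ψ hvan hψ hind => by
      obtain ⟨r, hr⟩ := hψ.mem_range hsum he hchar P (fun i => by
        have h := hvan (MvPolynomial.X (.P i) - MvPolynomial.C (P i)) fun φ hφ => by simp [hφ.2 i]
        simpa [sub_eq_zero] using h) v hv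
      have h0 := algebraicIndependent_iff.1 hind (MvPolynomial.X () - MvPolynomial.C r) (by simp [hr])
      have h1 := congrArg (MvPolynomial.eval fun _ => r + 1) h0
      simp at h1) id
  have hne : MvPolynomial.pUnitAlgEquiv k g ≠ 0 := (map_ne_zero_iff _ (AlgEquiv.injective _)).2 hg0
  refine (Polynomial.finite_setOf_isRoot hne).subset ?_
  rintro x ⟨φ, hφ, hφP, rfl⟩
  have h1 := hg φ ⟨hφ, hφP⟩
  have h2 : (Polynomial.aeval (φ v)).comp (MvPolynomial.pUnitAlgEquiv k).toAlgHom =
      MvPolynomial.aeval (fun _ : Unit => φ v) :=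
    MvPolynomial.algHom_ext fun _ => by simp
  exact (AlgHom.congr_fun h2 g).trans h1

end RamMapLib

end
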